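import Groth.Prelude.Def_DRing2
import Groth.Agent.H16Derived.ProjLift
import Mathlib.LinearAlgebra.Trace
import Mathlib.Data.Int.Interval
import Mathlib.Algebra.Ring.NegOnePow
import Mathlib.Algebra.Category.ModuleCat.Projective

/-!
# The alternating trace of an endomorphism of a bounded complex of finite free modules
-/

set_option autoImplicit false

universe u

open CategoryTheory CategoryTheory.Limits

attribute [local instance] HasDerivedCategory.standard

noncomputable section

namespace Groth.Agent.H4Trace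

variable {Λ : Type u} [CommRing Λ] {P Q : DRing.Cx Λ} {a b : ℤ}

/-- The alternating trace over `[a, b]`. -/
def altTr (a b : ℤ) (f : P ⟶ P) : Λ :=
  ∑ i ∈ Finset.Icc a b, ((i.negOnePow : ℤˣ) : ℤ) • LinearMap.trace Λ (P.X i) (f.f i).hom

theorem altTr_homotopy (hP : DRing.VanishesOutside P a b) (hPf : DRing.TermwiseFiniteFree P) {f g : P ⟶ P}
    (h : Homotopy f g) : altTr a b f = altTr a b g := by
  have hfin : ∀ i, Module.Finite Λ (P.X i) := fun i => (hPf i).1
  have hfree : ∀ i, Module.Free Λ (P.X i) := fun i => (hPf i).2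
  let u : ℤ → Λ := fun i => LinearMap.trace Λ (P.X i) ((h.hom (i + 1) i).hom ∘ₗ (P.d i (i + 1)).hom)
  have hu : ∀ j i, j + 1 = i →
      LinearMap.trace Λ (P.X i) ((P.d j i).hom ∘ₗ (h.hom i j).hom) = u j := by
    rintro j i rfl
    exact LinearMap.trace_comp_comm' _ _
  have key : ∀ i, LinearMap.trace Λ (P.X i) (f.f i).hom =
      u i + u (i - 1) + LinearMap.trace Λ (P.X i) (g.f i).hom := by
    intro i
    have hc := congrArg ModuleCat.Hom.hom (h.comm i)
    rw [dNext_eq (i' := i + 1) _ rfl, prevD_eq (j' := i - 1) _ (sub_add_cancel i 1), ModuleCat.hom_add,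
      ModuleCat.hom_add, ModuleCat.hom_comp, ModuleCat.hom_comp] at hc
    rw [hc, map_add, map_add, hu (i - 1) i (sub_add_cancel i 1)]
  have hzero : ∀ i, IsZero (P.X i) → u i = 0 := fun i hi => by
    have hs : Subsingleton (P.X i) := ModuleCat.subsingleton_of_isZero hi
    simp only [u]
    rw [Subsingleton.elim ((h.hom (i + 1) i).hom ∘ₗ (P.d i (i + 1)).hom) 0, map_zero]
  have hzero' : ∀ i, IsZero (P.X (i + 1)) → u i = 0 := fun i hi => by
    have hs : Subsingleton (P.X (i + 1)) := ModuleCat.subsingleton_of_isZero hi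
    simp only [u]
    rw [Subsingleton.elim (P.d i (i + 1)).hom 0, LinearMap.comp_zero, map_zero]
  have hsum : ∑ i ∈ Finset.Icc a b, ((i.negOnePow : ℤˣ) : ℤ) • (u i + u (i - 1)) = 0 := by
    simp only [smul_add, Finset.sum_add_distrib]
    have h1 : ∑ i ∈ Finset.Icc a b, ((i.negOnePow : ℤˣ) : ℤ) • u (i - 1) =
        -∑ i ∈ Finset.Icc (a - 1) (b - 1), ((i.negOnePow : ℤˣ) : ℤ) • u i := by
      rw [← Finset.sum_neg_distrib]
      refine Finset.sum_nbij' (· - 1) (· + 1) ?_ ?_ (fun _ _ => by simp) (fun _ _ => by simp) ?_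
      · intro i hi
        simp only [Finset.mem_Icc] at hi ⊢
        omega
      · intro i hi
        simp only [Finset.mem_Icc] at hi ⊢
        omega
      · intro i _
        rw [← neg_smul, show ((i - 1).negOnePow : ℤˣ) = -i.negOnePow by
          rw [Int.negOnePow_sub, Int.negOnePow_one, mul_neg, mul_one]]
        simp
    have h2 : ∀ s : Finset ℤ, s ⊆ Finset.Icc (a - 1) b →
        (∀ i ∈ Finset.Icc (a - 1) b, i ∉ s → u i = 0) →
        ∑ i ∈ s, ((i.negOnePow : ℤˣ) : ℤ) • u i = ∑ i ∈ Finset.Icc (a - 1) b, ((i.negOnePow : ℤˣ) : ℤ) • u i :=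
      fun s hs hz => Finset.sum_subset hs fun i hi hi' => by rw [hz i hi hi', smul_zero]
    rw [h1, h2 (Finset.Icc a b) (fun i hi => by simp only [Finset.mem_Icc] at hi ⊢; omega) (fun i hi hi' => hzero i (hP i (by
        simp only [Finset.mem_Icc] at hi hi'; omega))),
      h2 (Finset.Icc (a - 1) (b - 1)) (fun i hi => by simp only [Finset.mem_Icc] at hi ⊢; omega) (fun i hi hi' => hzero' i (hP _ (by
        simp only [Finset.mem_Icc] at hi hi'; omega))), add_neg_cancel]
  rw [altTr, altTr, ← zero_add (∑ i ∈ Finset.Icc a b, ((i.negOnePow : ℤˣ) : ℤ) • LinearMap.trace Λ (P.X i) (g.f i).hom),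
    ← hsum, ← Finset.sum_add_distrib]
  refine Finset.sum_congr rfl fun i _ => ?_
  rw [key, smul_add]

theorem altTr_comm (hPf : DRing.TermwiseFiniteFree P) (hQf : DRing.TermwiseFiniteFree Q) (φ : P ⟶ Q)
    (θ : Q ⟶ P) : altTr a b (φ ≫ θ) = altTr a b (θ ≫ φ) := by
  refine Finset.sum_congr rfl fun i _ => ?_
  have := (hPf i).1
  have := (hPf i).2
  have := (hQf i).1
  have := (hQf i).2
  rw [HomologicalComplex.comp_f, HomologicalComplex.comp_f, ModuleCat.hom_comp, ModuleCat.hom_comp,
    LinearMap.trace_comp_comm']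

theorem altTr_eq_of_iso (hP : DRing.VanishesOutside P a b) (hQ : DRing.VanishesOutside Q a b)
    (hPf : DRing.TermwiseFiniteFree P) (hQf : DRing.TermwiseFiniteFree Q) (f : P ⟶ P) (g : Q ⟶ Q)
    (α : DRing.toD P ≅ DRing.toD Q) (h : α.hom ≫ DerivedCategory.Q.map g = DerivedCategory.Q.map f ≫ α.hom) :
    altTr a b f = altTr a b g := by
  have hKP : ∀ {C : DRing.Cx Λ}, DRing.VanishesOutside C a b → DRing.TermwiseFiniteFree C → C.IsKProjective := by
    intro C hC hCf
    have : C.IsStrictlyLE b := (CochainComplex.isStrictlyLE_iff C b).2 fun i hi => hC i (Or.inr hi)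
    have : ∀ n, Projective (C.X n) := fun n =>
      have := (hCf n).2
      (IsProjective.iff_projective (R := Λ) (C.X n)).1 inferInstance
    exact CochainComplex.isKProjective_of_projective C b
  have := hKP hP hPf
  have := hKP hQ hQf
  obtain ⟨φ, hφ⟩ := H16Derived.ProjLift.Q_map_surjective P Q α.hom
  obtain ⟨ψ, hψ⟩ := H16Derived.ProjLift.Q_map_surjective Q P α.inv
  obtain ⟨h1⟩ := H16Derived.ProjLift.homotopic_of_Q_map P P (φ ≫ ψ) (𝟙 P) (by
    rw [DerivedCategory.Q.map_comp, DerivedCategory.Q.map_id, hφ, hψ, Iso.hom_inv_id])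
  obtain ⟨h2⟩ := H16Derived.ProjLift.homotopic_of_Q_map Q Q (ψ ≫ φ) (𝟙 Q) (by
    rw [DerivedCategory.Q.map_comp, DerivedCategory.Q.map_id, hφ, hψ, Iso.inv_hom_id])
  obtain ⟨h3⟩ := H16Derived.ProjLift.homotopic_of_Q_map P Q (φ ≫ g) (f ≫ φ) (by
    rw [DerivedCategory.Q.map_comp, DerivedCategory.Q.map_comp, hφ, h])
  calc altTr a b f = altTr a b (f ≫ φ ≫ ψ) := by
        conv_lhs => rw [← Category.comp_id f]
        exact (altTr_homotopy hP hPf (h1.compLeft f)).symm
    _ = altTr a b ((φ ≫ g) ≫ ψ) := by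
        rw [← Category.assoc f φ ψ]
        exact (altTr_homotopy hP hPf (h3.compRight ψ)).symm
    _ = altTr a b (ψ ≫ φ ≫ g) := altTr_comm hPf hQf _ _
    _ = altTr a b g := by
        rw [← Category.assoc ψ φ g]
        conv_rhs => rw [← Category.id_comp g]
        exact altTr_homotopy hQ hQf (h2.compRight g)

end Groth.Agent.H4Trace
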